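import Cfsg.Agent.H172.SINum
import Mathlib

/-!
# The 2-part of `∏ (q ^ k - 1)` (helper287, S5761)
-/

set_option autoImplicit false

namespace Cfsg.Agent.H287.B3

open Cfsg.Agent.H172.SI

/-- the 2-part of `q ^ k - 1`, `k` even -/
theorem two_part_one {q k : ℕ} (hq : ¬ 2 ∣ q) (hq2 : 2 ≤ q) (hk : 0 < k) (hke : 2 ∣ k) :
    2 ^ padicValNat 2 (q ^ k - 1) ≤ (q + 1) * 2 ^ padicValNat 2 k := by
  have h1 : padicValNat 2 (q ^ k - 1 ^ k) + 1 = padicValNat 2 (q + 1) + padicValNat 2 (q - 1) + padicValNat 2 k :=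
    padicValNat.pow_two_sub_pow (by omega) (by omega) hq hk.ne' (even_iff_two_dvd.2 hke)
  rw [one_pow] at h1
  have h2 : padicValNat 2 (q + 1) = 1 ∨ padicValNat 2 (q - 1) = 1 := by
    have h4 : q % 4 = 1 ∨ q % 4 = 3 := by omega
    rcases h4 with h4 | h4
    · left
      obtain ⟨m, hm⟩ : ∃ m, q + 1 = 2 * m ∧ ¬ 2 ∣ m := ⟨(q + 1) / 2, by omega, by omega⟩
      rw [hm.1, padicValNat.mul (by norm_num) (by omega), padicValNat.self (by norm_num),
        padicValNat.eq_zero_of_not_dvd hm.2]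
    · right
      obtain ⟨m, hm⟩ : ∃ m, q - 1 = 2 * m ∧ ¬ 2 ∣ m := ⟨(q - 1) / 2, by omega, by omega⟩
      rw [hm.1, padicValNat.mul (by norm_num) (by omega), padicValNat.self (by norm_num),
        padicValNat.eq_zero_of_not_dvd hm.2]
  have hle : ∀ n : ℕ, 0 < n → 2 ^ padicValNat 2 n ≤ n := fun n hn => Nat.le_of_dvd hn pow_padicValNat_dvd
  have h3 : 2 ^ (padicValNat 2 (q + 1) + padicValNat 2 (q - 1)) ≤ 2 * (q + 1) := by
    rcases h2 with h2 | h2
    · rw [h2, pow_add, pow_one]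
      have := hle (q - 1) (by omega)
      omega
    · rw [h2, pow_add, pow_one, mul_comm]
      exact Nat.mul_le_mul_left 2 (hle (q + 1) (by omega))
  have h4 : 2 * 2 ^ padicValNat 2 (q ^ k - 1) ≤ 2 * ((q + 1) * 2 ^ padicValNat 2 k) := by
    calc 2 * 2 ^ padicValNat 2 (q ^ k - 1) = 2 ^ (padicValNat 2 (q ^ k - 1) + 1) := by rw [pow_succ']
      _ = 2 ^ (padicValNat 2 (q + 1) + padicValNat 2 (q - 1)) * 2 ^ padicValNat 2 k := by rw [h1, pow_add]
      _ ≤ 2 * (q + 1) * 2 ^ padicValNat 2 k := Nat.mul_le_mul_right _ h3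
      _ = _ := by ring
  omega

/-- **The 2-part of `∏ (q ^ k - 1)`.** -/
theorem two_part_le {q : ℕ} (hq : ¬ 2 ∣ q) (hq2 : 2 ≤ q) : ∀ ds : List ℕ, (∀ k ∈ ds, 0 < k ∧ 2 ∣ k) →
    2 ^ padicValNat 2 (pr q ds) ≤ (q + 1) ^ ds.length * 2 ^ padicValNat 2 ds.prod := by
  intro ds
  induction ds with
  | nil => intro _; simp [pr]
  | cons k ds ih =>
    intro h
    obtain ⟨hk, hk2⟩ := h k (by simp)
    have hds : ∀ k ∈ ds, 0 < k ∧ 2 ∣ k := fun k hk => h k (by simp [hk])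
    have h1 : pr q (k :: ds) = (q ^ k - 1) * pr q ds := by simp [pr]
    have h2 : q ^ k - 1 ≠ 0 := by
      have : 1 < q ^ k := Nat.one_lt_pow hk.ne' (by omega)
      omega
    have h3 : ds.prod ≠ 0 := by
      refine List.prod_ne_zero ?_
      intro h0
      exact lt_irrefl 0 (hds 0 h0).1
    rw [h1, padicValNat.mul h2 (pr_ne_zero hq2 fun k hk => (hds k hk).1), List.prod_cons,
      padicValNat.mul hk.ne' h3, List.length_cons, pow_add, pow_add, pow_succ]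
    calc 2 ^ padicValNat 2 (q ^ k - 1) * 2 ^ padicValNat 2 (pr q ds)
        ≤ ((q + 1) * 2 ^ padicValNat 2 k) * ((q + 1) ^ ds.length * 2 ^ padicValNat 2 ds.prod) :=
          Nat.mul_le_mul (two_part_one hq hq2 hk hk2) (ih hds)
      _ = _ := by ring

/-- the order of a 2-subgroup -/
theorem card_two_le {T : Type*} [Group T] [Finite T] {q N : ℕ} (hq : ¬ 2 ∣ q) (hq2 : 2 ≤ q) {ds : List ℕ}
    (hds : ∀ k ∈ ds, 0 < k ∧ 2 ∣ k) (hcard : Nat.card T ∣ q ^ N * pr q ds) {w : ℕ}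
    (hw : padicValNat 2 ds.prod = w) (Q : Subgroup T) (hQ : IsPGroup 2 Q) :
    Nat.card Q ≤ (q + 1) ^ ds.length * 2 ^ w := by
  have : Fact (Nat.Prime 2) := ⟨Nat.prime_two⟩
  obtain ⟨a, ha⟩ := hQ.exists_card_eq
  have h1 : 2 ^ a ∣ q ^ N * pr q ds := by
    rw [← ha]
    exact (Subgroup.card_subgroup_dvd_card Q).trans hcard
  have h2 : Nat.Coprime (2 ^ a) (q ^ N) :=
    Nat.Coprime.pow _ _ ((Nat.Prime.coprime_iff_not_dvd Nat.prime_two).2 hq)
  have h3 : 2 ^ a ∣ pr q ds := h2.dvd_of_dvd_mul_left h1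
  have h4 : a ≤ padicValNat 2 (pr q ds) :=
    (padicValNat_dvd_iff_le (pr_ne_zero hq2 fun k hk => (hds k hk).1)).1 h3
  rw [ha, ← hw]
  exact (Nat.pow_le_pow_right (by norm_num) h4).trans (two_part_le hq hq2 ds hds)

/-- `3 f ≤ q` -/
theorem three_mul_le {p f q : ℕ} (hp : p.Prime) (hq : ¬ 2 ∣ q) (h : q = p ^ f) (hf : 0 < f) : 3 * f ≤ q := by
  have h3 : 3 ≤ p := by
    rcases hp.eq_two_or_odd with h2 | h2
    · exfalso
      apply hq
      rw [h, h2]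
      exact dvd_pow_self 2 hf.ne'
    · have := hp.two_le
      omega
  have h4 : 3 * f ≤ 3 ^ f := by
    obtain ⟨g, rfl⟩ := Nat.exists_eq_succ_of_ne_zero hf.ne'
    have : g < 3 ^ g := Nat.lt_pow_self (by norm_num)
    rw [Nat.succ_eq_add_one, pow_succ]
    omega
  rw [h]
  exact h4.trans (Nat.pow_le_pow_left h3 f)

/-- the final inequality -/
theorem fin_ineq {q f B M c C o b : ℕ} (hb : 1 ≤ b) (hq : b ≤ q) (hf : 3 * f ≤ q) (ho : o ≤ c * f) (hM : B ≤ M)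
    (h : 2 * c * C * (b + 1) ^ B < 3 * b ^ M) {Q : ℕ} (hQ : Q ≤ (q + 1) ^ B * C) : 2 * (o * Q) < q ^ (M + 1) := by
  have h1 := num_ineq (C := 2 * c * C) (A := 0) (B := B) (M := M) (D := 3) (s₀ := 1) (b := b) hb
    (by norm_num) (by omega) (by simpa using h) (by simpa using Nat.one_le_pow M _ hb) le_rfl hq
  rw [pow_zero, mul_one, mul_one] at h1
  have h2 : 3 * (2 * (o * Q)) < 3 * q ^ (M + 1) := by
    calc 3 * (2 * (o * Q)) ≤ 3 * (2 * ((c * f) * ((q + 1) ^ B * C))) :=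
          Nat.mul_le_mul_left _ (Nat.mul_le_mul_left _ (Nat.mul_le_mul ho hQ))
      _ = (3 * f) * (2 * c * C * (q + 1) ^ B) := by ring
      _ ≤ q * (2 * c * C * (q + 1) ^ B) := Nat.mul_le_mul_right _ hf
      _ < q * (3 * q ^ M) := Nat.mul_lt_mul_of_pos_left h1 (by omega)
      _ = _ := by ring
  omega

end Cfsg.Agent.H287.B3
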