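import Cfsg.Agent.H287.B3.Fix
import Cfsg.Agent.H287.B3.Num
import Cfsg.Agent.H172.S3Tw
import Cfsg.Agent.S2123
import Cfsg.Agent.S2124
import Cfsg.Agent.S2125

/-!
# S5761, part C: `Row3 2 T` for the exceptional groups over fields of odd order (helper287)
-/

set_option autoImplicit false

namespace Cfsg.Agent.H287.B3

open Cfsg.Agent.H81.PJTab Cfsg.Agent.ChevalleyStructure.CoxeterGeomTypes
open Cfsg.Lie Cfsg.Agent.H903.SylMeet Cfsg.Agent.H172.SI Cfsg.Agent.H233.B3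
open Cfsg.Agent.H523.Dsp Cfsg.Agent.H523.DspRgd Cfsg.Agent.H523.DspPath Cfsg.Agent.H523.DspChev
  Cfsg.Agent.H523.DspMeet Cfsg.Agent.H81.PJExc Cfsg.Agent.Nodes.RGDChev Cfsg.Agent.ChevalleyStructure

/-- `MeetIn 2 T` -/
abbrev MeetIn (T : Type*) [Group T] : Prop :=
  ∀ R : Subgroup T, IsPGroup 2 R → ∃ x : T, ∀ y ∈ R, x * y * x⁻¹ ∈ R → y = 1

/-! ### `G₂` -/

/-- the Cartan matrix -/
def aG : List (List ℤ) := [[2, -3], [-1, 2]]

theorem aG_ok : ∀ i j : Fin 2, (aG.getD i []).getD j 0 = cartanOf chevG2 2 i j := by decide +kernel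

theorem sh_G : Sh 2 aG := by unfold Sh; decide

theorem pG : ∀ i : Fin 2, 5 ≤ wgt (fun _ => 1) (gr 2 aG 5 (ei 2 i)) := by decide +kernel

/-- classes of automorphisms of `G₂(q)` -/
theorem index_G2 {F : Type} [Field F] [Fintype F] [IsSimpleGroup ↥(chevG2.group F)] (τ : MulAut ↥(chevG2.group F))
    (hτ : τ ≠ 1) : Fintype.card F ^ 5 ≤ (fix τ).index :=
  index_chev Cfsg.Agent.H172.S3.typeG2 (fun i => exists_path sh_G aG_ok Fintype.card_pos (fun _ => 1) _
    (fun _ => (pow_one _).symm) 5 5 i (pG i)) τ hτ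

/-- the characteristic and the degree of a field of odd order -/
theorem exists_pf (F : Type*) [Field F] [Fintype F] (ho : ¬ 2 ∣ Fintype.card F) :
    ∃ p f : ℕ, Fact p.Prime ∧ CharP F p ∧ Fintype.card F = p ^ f ∧ 0 < f ∧ 3 * f ≤ Fintype.card F ∧
      3 ≤ Fintype.card F := by
  obtain ⟨p, hp⟩ := CharP.exists F
  obtain ⟨n, hpp, hn⟩ := FiniteField.card F p
  have h1 := three_mul_le hpp ho hn n.pos
  refine ⟨p, n, ⟨hpp⟩, hp, hn, n.pos, h1, ?_⟩
  have := n.pos
  omega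

theorem v2 {n a m : ℕ} (h : n = 2 ^ a * m) (hm : ¬ 2 ∣ m) : padicValNat 2 n = a := by
  have hm0 : m ≠ 0 := by rintro rfl; exact hm (dvd_zero 2)
  rw [h, padicValNat.mul (pow_ne_zero _ (by norm_num)) hm0, padicValNat.prime_pow,
    padicValNat.eq_zero_of_not_dvd hm, add_zero]

theorem row_G2 {F : Type} [Field F] [Fintype F] (ho : ¬ 2 ∣ Fintype.card F)
    (hM : MeetIn ↥(chevG2.group F)) : Row3 2 ↥(chevG2.group F) := by
  classical
  have : Finite (GL chevG2.Idx F) := inferInstance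
  obtain ⟨p, f, hp, hch, hFc, hf, h3f, h3⟩ := exists_pf F ho
  obtain ⟨hs, hT⟩ := Cfsg.Agent.S1055.result (F := F) (by
    by_contra hcon
    push Not at hcon
    have h5 : (Finset.univ : Finset F) ⊆ {0, 1} := fun a _ => by
      by_cases h6 : a = 0
      · simp [h6]
      · simp [hcon a h6]
    have h4 := Finset.card_le_card h5
    rw [Finset.card_univ] at h4
    have h6 : ({0, 1} : Finset F).card ≤ 2 := Finset.card_le_two
    omega)
  have hout := Cfsg.Agent.S2121.result p f hFc (by omega)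
  have hout' : Nat.card (Cfsg.Out ↥(chevG2.group F)) ≤ 2 * f := by
    rw [hout]
    split_ifs <;> omega
  rcases Nat.lt_or_ge f 2 with h1 | h1
  · exact row3_of_meetIn hT hM (by omega)
  · have h9 : 9 ≤ Fintype.card F := by
      have h2 : p ≠ 2 := by
        rintro rfl
        exact ho (hFc ▸ dvd_pow_self 2 hf.ne')
      have h3 : 3 ≤ p := by have := hp.out.two_le; omega
      rw [hFc]
      calc 9 = 3 ^ 2 := by norm_num
        _ ≤ p ^ 2 := Nat.pow_le_pow_left h3 2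
        _ ≤ p ^ f := Nat.pow_le_pow_right (by omega) h1
    refine row3_of_fix hT hM (m := Fintype.card F ^ 5) index_G2 fun Q hQ => ?_
    have hQ1 := card_two_le ho (by omega) (ds := [2, 6]) (by decide) (card_dvd deg_G2 rfl)
      (v2 (a := 2) (m := 3) (by norm_num) (by norm_num)) Q hQ
    exact fin_ineq (b := 9) (c := 2) (M := 4) (by norm_num) h9 h3f hout' (by simp) (by norm_num) hQ1

theorem row_F4 {F : Type} [Field F] [Fintype F] (ho : ¬ 2 ∣ Fintype.card F)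
    (hM : MeetIn ↥(chevF4.group F)) : Row3 2 ↥(chevF4.group F) := by
  classical
  have : Finite (GL chevF4.Idx F) := inferInstance
  obtain ⟨p, f, hp, hch, hFc, hf, h3f, h3⟩ := exists_pf F ho
  obtain ⟨hs, hT⟩ := Cfsg.Agent.S1054.result (F := F) chevF4 (by simp)
  have hout := Cfsg.Agent.S2122.result p f hFc
  have hout' : Nat.card (Cfsg.Out ↥(chevF4.group F)) ≤ 2 * f := by
    rw [hout]
    exact Nat.mul_le_mul_right _ (Nat.gcd_le_left _ (by norm_num))
  refine row3_of_fix hT hM (m := Fintype.card F ^ 15) Cfsg.Agent.H172.S3.index_F4 fun Q hQ => ?_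
  have hQ1 := card_two_le ho (by omega) (ds := [2, 6, 8, 12]) (by decide) (card_dvd deg_F4 rfl)
    (v2 (a := 7) (m := 9) (by norm_num) (by norm_num)) Q hQ
  exact fin_ineq (b := 3) (c := 2) (M := 14) (by norm_num) h3 h3f hout' (by simp) (by norm_num) hQ1

theorem row_E6 {F : Type} [Field F] [Fintype F] (ho : ¬ 2 ∣ Fintype.card F)
    (hM : MeetIn ↥(chevE6.group F)) : Row3 2 ↥(chevE6.group F) := by
  classical
  have : Finite (GL chevE6.Idx F) := inferInstance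
  obtain ⟨p, f, hp, hch, hFc, hf, h3f, h3⟩ := exists_pf F ho
  obtain ⟨hs, hT⟩ := Cfsg.Agent.S1054.result (F := F) chevE6 (by simp)
  have hout := Cfsg.Agent.S2123.result p f hFc
  have hout' : Nat.card (Cfsg.Out ↥(chevE6.group F)) ≤ 6 * f := by
    rw [hout]
    refine Nat.mul_le_mul_right _ ?_
    have := Nat.gcd_le_left (p ^ f - 1) (show 0 < 3 by norm_num)
    omega
  refine row3_of_fix hT hM (m := Fintype.card F ^ 16) index_E6 fun Q hQ => ?_
  have hc : Nat.card ↥(chevE6.group F) ∣ Fintype.card F ^ 36 * pr (Fintype.card F) [2, 10, 6, 8, 18, 12] := by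
    refine (card_dvd deg_E6 rfl).trans (Nat.mul_dvd_mul_left _ ?_)
    have hd : ∀ k : ℕ, Fintype.card F ^ k - 1 ∣ Fintype.card F ^ (k * 2) - 1 := fun k =>
      Nat.pow_sub_one_dvd_pow_sub_one _ (Dvd.intro _ rfl)
    simp only [pr, List.map_cons, List.map_nil, List.prod_cons, List.prod_nil]
    exact Nat.mul_dvd_mul_left _ (Nat.mul_dvd_mul (hd 5) (Nat.mul_dvd_mul_left _ (Nat.mul_dvd_mul_left _
      (Nat.mul_dvd_mul (hd 9) dvd_rfl))))
  have hQ1 := card_two_le ho (by omega) (ds := [2, 10, 6, 8, 18, 12]) (by decide) hc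
    (v2 (a := 9) (m := 405) (by norm_num) (by norm_num)) Q hQ
  exact fin_ineq (b := 3) (c := 6) (M := 15) (by norm_num) h3 h3f hout' (by simp) (by norm_num) hQ1

theorem row_E7 {F : Type} [Field F] [Fintype F] (ho : ¬ 2 ∣ Fintype.card F)
    (hM : MeetIn ↥(chevE7.group F)) : Row3 2 ↥(chevE7.group F) := by
  classical
  have : Finite (GL chevE7.Idx F) := inferInstance
  obtain ⟨p, f, hp, hch, hFc, hf, h3f, h3⟩ := exists_pf F ho
  obtain ⟨hs, hT⟩ := Cfsg.Agent.S1054.result (F := F) chevE7 (by simp)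
  have hout := Cfsg.Agent.S2124.result p f hFc
  have hout' : Nat.card (Cfsg.Out ↥(chevE7.group F)) ≤ 2 * f := by
    rw [hout]
    exact Nat.mul_le_mul_right _ (Nat.gcd_le_left _ (by norm_num))
  refine row3_of_fix hT hM (m := Fintype.card F ^ 27) index_E7 fun Q hQ => ?_
  have hQ1 := card_two_le ho (by omega) (ds := [2, 6, 8, 10, 12, 14, 18]) (by decide) (card_dvd deg_E7 rfl)
    (v2 (a := 10) (m := 2835) (by norm_num) (by norm_num)) Q hQ
  exact fin_ineq (b := 3) (c := 2) (M := 26) (by norm_num) h3 h3f hout' (by simp) (by norm_num) hQ1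

theorem row_E8 {F : Type} [Field F] [Fintype F] (ho : ¬ 2 ∣ Fintype.card F)
    (hM : MeetIn ↥(chevE8.group F)) : Row3 2 ↥(chevE8.group F) := by
  classical
  have : Finite (GL chevE8.Idx F) := inferInstance
  obtain ⟨p, f, hp, hch, hFc, hf, h3f, h3⟩ := exists_pf F ho
  obtain ⟨hs, hT⟩ := Cfsg.Agent.S1054.result (F := F) chevE8 (by simp)
  have hout := Cfsg.Agent.S2125.result p f hFc
  refine row3_of_fix hT hM (m := Fintype.card F ^ 57) index_E8 fun Q hQ => ?_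
  have hQ1 := card_two_le ho (by omega) (ds := [2, 8, 12, 14, 18, 20, 24, 30]) (by decide) (card_dvd deg_E8 rfl)
    (v2 (a := 14) (m := 42525) (by norm_num) (by norm_num)) Q hQ
  exact fin_ineq (b := 3) (c := 1) (M := 56) (by norm_num) h3 h3f (by rw [hout, one_mul]) (by simp) (by norm_num) hQ1

/-- the characteristic and the degree, twisted groups -/
theorem exists_pf_tw {K : Type*} [Field K] [Fintype K] {q n : ℕ} (hn : n ≠ 0) (hq : IsPrimePow q)
    (hK : Fintype.card K = q ^ n) (ho : ¬ 2 ∣ q) :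
    ∃ p f : ℕ, Fact p.Prime ∧ CharP K p ∧ q = p ^ f ∧ Fintype.card K = p ^ (n * f) ∧ 1 ≤ f ∧ 3 * f ≤ q ∧ 3 ≤ q := by
  rw [isPrimePow_nat_iff] at hq
  obtain ⟨p, f, hp, hf, rfl⟩ := hq
  have hK' : Fintype.card K = p ^ (n * f) := by rw [hK, ← pow_mul, mul_comm]
  have h1 := three_mul_le hp ho rfl hf
  refine ⟨p, f, ⟨hp⟩, charP_of_card hp (Nat.mul_pos (Nat.pos_of_ne_zero hn) hf) hK', rfl, hK', hf, h1, by omega⟩

theorem row_2E6 {K : Type} [Field K] [Fintype K] {q : ℕ} (hq : IsPrimePow q) (hK : Fintype.card K = q ^ 2)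
    (ho : ¬ 2 ∣ q) (hM : MeetIn ↥(twistedE6 K q)) : Row3 2 ↥(twistedE6 K q) := by
  classical
  have : Finite (GL chevE6.Idx K) := inferInstance
  obtain ⟨p, f, hp, hch, rfl, hKc, hf, h3f, h3⟩ := exists_pf_tw (by norm_num) hq hK ho
  obtain ⟨hs, hT⟩ := Cfsg.Agent.S1070.result hq hK
  have hout := Cfsg.Agent.S2130.result p f hKc hf
  set q := p ^ f with hqd
  have hout' : Nat.card (Cfsg.Out ↥(twistedE6 K q)) ≤ 6 * f := by
    rw [hout]
    refine Nat.mul_le_mul_right _ ?_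
    have h6 : Nat.gcd 3 (q + 1) ≤ 3 := Nat.gcd_le_left _ (by norm_num)
    omega
  refine row3_of_fix hT hM (m := q ^ 21) (fun τ hτ => index_tw hq hK τ hτ) fun Q hQ => ?_
  have hcard := Cfsg.Agent.S1066.result hq hK
  have hpow1 : ∀ k : ℕ, (q ^ k + 1) * (q ^ k - 1) = q ^ (2 * k) - 1 := by
    intro k
    have := Nat.sq_sub_sq (q ^ k) 1
    rw [one_pow, ← pow_mul, mul_comm k 2] at this
    exact this.symm
  have hcd : Nat.card ↥(twistedE6 K q) ∣ q ^ 36 * pr q [2, 6, 8, 10, 12, 18] := by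
    refine ⟨Nat.gcd 3 (q + 1) * ((q ^ 5 - 1) * (q ^ 9 - 1)), ?_⟩
    have h7 : pr q [2, 6, 8, 10, 12, 18] = (q ^ 2 - 1) * (q ^ 6 - 1) * (q ^ 8 - 1) *
        (q ^ (2 * 5) - 1) * (q ^ 12 - 1) * (q ^ (2 * 9) - 1) := by
      simp [pr, mul_assoc]
    rw [h7, ← hpow1, ← hpow1]
    calc _ = (q ^ 36 * (q ^ 2 - 1) * (q ^ 5 + 1) * (q ^ 6 - 1) * (q ^ 8 - 1) *
        (q ^ 9 + 1) * (q ^ 12 - 1)) * ((q ^ 5 - 1) * (q ^ 9 - 1)) := by ring
      _ = _ := by rw [← hcard]; ring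
  have hQ1 := card_two_le ho (by omega) (ds := [2, 6, 8, 10, 12, 18]) (by decide) hcd
    (v2 (a := 9) (m := 405) (by norm_num) (by norm_num)) Q hQ
  exact fin_ineq (b := 3) (c := 6) (M := 20) (by norm_num) h3 h3f hout' (by simp) (by norm_num) hQ1

theorem row_3D4 {K : Type} [Field K] [Fintype K] {q : ℕ} (hq : IsPrimePow q) (hK : Fintype.card K = q ^ 3)
    (ho : ¬ 2 ∣ q) (hM : MeetIn ↥(twistedD4 K q)) : Row3 2 ↥(twistedD4 K q) := by
  classical
  have : Finite (GL chevD4.Idx K) := inferInstance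
  obtain ⟨p, f, hp, hch, rfl, hKc, hf, h3f, h3⟩ := exists_pf_tw (by norm_num) hq hK ho
  obtain ⟨hs, hT⟩ := Cfsg.Agent.S1071.result hq hK
  have hout := Cfsg.Agent.S2129.result p f hKc hf
  set q := p ^ f with hqd
  refine row3_of_fix hT hM (m := q ^ 9) (fun τ hτ => Cfsg.Agent.H172.S3.index_3D4 hq hK τ hτ) fun Q hQ => ?_
  have hcard := Cfsg.Agent.S1067.result hq hK
  have hcd : Nat.card ↥(twistedD4 K q) ∣ q ^ 12 * pr q [2, 6, 12] := by
    refine ⟨q ^ 4 - 1, ?_⟩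
    have h7 : pr q [2, 6, 12] = (q ^ 2 - 1) * (q ^ 6 - 1) * (q ^ 12 - 1) := by
      simp [pr, mul_assoc]
    have h2 : (q ^ 8 + q ^ 4 + 1) * (q ^ 4 - 1) = q ^ 12 - 1 := by
      have h3 : 1 ≤ q ^ 4 := Nat.one_le_pow _ _ (by omega)
      obtain ⟨x, hx⟩ := Nat.exists_eq_add_of_le h3
      have h4 : q ^ 8 = (q ^ 4) ^ 2 := by ring
      have h5 : q ^ 12 = (q ^ 4) ^ 3 := by ring
      rw [h4, h5, hx, Nat.add_sub_cancel_left]
      have h6 : (1 + x) ^ 3 = ((1 + x) ^ 2 + (1 + x) + 1) * x + 1 := by ring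
      rw [h6, Nat.add_sub_cancel]
    rw [h7, ← h2, hcard]
    ring
  have hQ1 := card_two_le ho (by omega) (ds := [2, 6, 12]) (by decide) hcd
    (v2 (a := 4) (m := 9) (by norm_num) (by norm_num)) Q hQ
  exact fin_ineq (b := 3) (c := 3) (M := 8) (by norm_num) h3 h3f (by rw [hout]) (by simp) (by norm_num) hQ1

end Cfsg.Agent.H287.B3
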