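import Cfsg.Agent.H233.B3.Row3
import Cfsg.Agent.H523.DspMeet

/-!
# `Row3 2 T` from lower bounds for the classes of automorphisms (helper287, S5761)

* `row3_of_fix` : MeetIn 2 T, `m ≤ |T : C_T(τ)|` for all automorphisms `τ ≠ 1` and `2 |Out T| |T|_2 < m`;
* `two_part_le` : the 2-part of `∏ (q ^ k - 1)`.
-/

set_option autoImplicit false

namespace Cfsg.Agent.H287.B3

open Subgroup Cfsg.Agent.H903.SylMeet Cfsg.Agent.H233.B3 Cfsg.Agent.H523.Dsp

section fix

variable {T : Type*} [Group T]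

/-- The conjugates of `P` containing `y`. -/
theorem card_bad_fix [Finite T] {P : Subgroup (MulAut T)} {m : ℕ} {y : MulAut T} (hy : y ∈ P)
    (hCm : m ≤ (fix y).index) :
    m * Nat.card {z : T // MulAut.conj z * y * (MulAut.conj z)⁻¹ ∈ P} ≤ Nat.card (inn P) * Nat.card T := by
  classical
  set C : Subgroup T := fix y with hCdef
  have hc := Subgroup.index_mul_card C
  have hmem : ∀ z : {z : T // MulAut.conj z * y * (MulAut.conj z)⁻¹ ∈ P}, (z : T) * (y z)⁻¹ ∈ inn P := by
    rintro ⟨z, hz⟩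
    rw [conj_mul_mul_inv] at hz
    have := mul_mem hz (inv_mem hy)
    rwa [mul_assoc, mul_inv_cancel, mul_one] at this
  have hsec : ∀ u : inn P, ∃ s : T, ∀ z : {z : T // MulAut.conj z * y * (MulAut.conj z)⁻¹ ∈ P},
      (z : T) * (y z)⁻¹ = u → s * (y s)⁻¹ = u := by
    intro u
    by_cases hex : ∃ z : {z : T // MulAut.conj z * y * (MulAut.conj z)⁻¹ ∈ P}, (z : T) * (y z)⁻¹ = u
    · obtain ⟨z, hz⟩ := hex
      exact ⟨z, fun _ _ => hz⟩
    · exact ⟨1, fun z hz => absurd ⟨z, hz⟩ hex⟩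
  choose s hs using hsec
  have hb : Nat.card {z : T // MulAut.conj z * y * (MulAut.conj z)⁻¹ ∈ P} ≤ Nat.card (inn P) * Nat.card C := by
    rw [← Nat.card_prod]
    have hCm' : ∀ z : {z : T // MulAut.conj z * y * (MulAut.conj z)⁻¹ ∈ P}, (s ⟨_, hmem z⟩)⁻¹ * (z : T) ∈ C := by
      intro z
      have h1' : s ⟨_, hmem z⟩ * (y (s ⟨_, hmem z⟩))⁻¹ = (z : T) * (y z)⁻¹ := hs ⟨_, hmem z⟩ z rfl
      change y ((s ⟨_, hmem z⟩)⁻¹ * (z : T)) = (s ⟨_, hmem z⟩)⁻¹ * (z : T)
      generalize s ⟨_, hmem z⟩ = w at h1'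
      rw [map_mul, map_inv]
      have h2 : (y w)⁻¹ = w⁻¹ * ((z : T) * (y z)⁻¹) := by
        rw [← h1']; group
      rw [h2]
      group
    refine Nat.card_le_card_of_injective (fun z => (⟨_, hmem z⟩, ⟨_, hCm' z⟩)) ?_
    intro z z' e
    have e1 : (⟨_, hmem z⟩ : inn P) = ⟨_, hmem z'⟩ := congrArg Prod.fst e
    have e2 : (s ⟨_, hmem z⟩)⁻¹ * (z : T) = (s ⟨_, hmem z'⟩)⁻¹ * (z' : T) :=
      congrArg (fun w : C => (w : T)) (congrArg Prod.snd e)
    rw [e1] at e2
    exact Subtype.ext (mul_left_cancel e2)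
  calc m * Nat.card {z : T // MulAut.conj z * y * (MulAut.conj z)⁻¹ ∈ P}
      ≤ C.index * (Nat.card (inn P) * Nat.card C) := Nat.mul_le_mul hCm hb
    _ = Nat.card (inn P) * (C.index * Nat.card C) := by ring
    _ = _ := by rw [hc]

/-- **Numbers.** -/
theorem row3_of_fix [Finite T] [IsSimpleGroup T] (hT : ¬ IsMulCommutative T)
    (h : ∀ R : Subgroup T, IsPGroup 2 R → ∃ x : T, ∀ y ∈ R, x * y * x⁻¹ ∈ R → y = 1) {m : ℕ}
    (hm : ∀ τ : MulAut T, τ ≠ 1 → m ≤ (fix τ).index)
    (hn : ∀ Q : Subgroup T, IsPGroup 2 Q → 2 * (Nat.card (Cfsg.Out T) * Nat.card Q) < m) : Row3 2 T := by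
  classical
  intro P hP
  obtain ⟨x, hx⟩ := exists_of_meetIn hT h hP
  have hDp : IsPGroup 2 (DD P x) := hP.to_le inf_le_left
  have hcard : Nat.card (DD P x) ≤ Nat.card (Cfsg.Out T) :=
    Nat.card_le_card_of_injective _ (injective_DD hx)
  have hm2 : 2 * (Nat.card (DD P x) * Nat.card (inn P)) < m :=
    lt_of_le_of_lt (Nat.mul_le_mul_left 2 (Nat.mul_le_mul_right _ hcard)) (hn _ (inn_pgroup hT hP))
  -- `2 m ≤ |T|`
  have hT2 : 2 * m ≤ Nat.card T := by
    have : Nontrivial T := IsSimpleGroup.toNontrivial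
    obtain ⟨g, hg⟩ := exists_ne (1 : T)
    have h1 : (MulAut.conj g : MulAut T) ≠ 1 := fun h0 => hg (conj_injective hT (h0.trans (map_one _).symm))
    have h2 := hm _ h1
    have h3 : 2 ≤ Nat.card (fix (MulAut.conj g)) := by
      have h5 : zpowers g ≤ fix (MulAut.conj g) := by
        rw [zpowers_le]
        change MulAut.conj g g = g
        rw [MulAut.conj_apply, mul_inv_cancel_right]
      have h4 : Nat.card (zpowers g) ≠ 1 := by
        rw [Nat.card_zpowers, Ne, orderOf_eq_one_iff]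
        exact hg
      have h6 : 0 < Nat.card (zpowers g) := Nat.card_pos
      have h7 := Subgroup.card_le_of_le h5
      omega
    calc 2 * m ≤ Nat.card (fix (MulAut.conj g)) * (fix (MulAut.conj g)).index := Nat.mul_le_mul h3 h2
      _ = _ := Subgroup.card_mul_index _
  apply g3_of_count x
  have _ : Fintype T := Fintype.ofFinite T
  have _ : Fintype (MulAut T) := Fintype.ofFinite _
  let D := DD P x
  let Good : Finset T := Finset.univ.filter fun z => ∀ y ∈ D, MulAut.conj z * y * (MulAut.conj z)⁻¹ ∈ P → y = 1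
  let Bad : MulAut T → Finset T := fun y => Finset.univ.filter fun z => MulAut.conj z * y * (MulAut.conj z)⁻¹ ∈ P
  have hGood : Nat.card {z : T // ∀ y ∈ DD P x, MulAut.conj z * y * (MulAut.conj z)⁻¹ ∈ P → y = 1} = Good.card := by
    rw [Nat.card_eq_fintype_card, Fintype.card_subtype]
  have hBad : ∀ y ∈ D, y ≠ 1 → m * (Bad y).card ≤ Nat.card (inn P) * Nat.card T := by
    intro y hy hy1
    have h1 := card_bad_fix hy.1 (hm y hy1)
    rwa [Nat.card_eq_fintype_card (α := {z : T // MulAut.conj z * y * (MulAut.conj z)⁻¹ ∈ P}),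
      Fintype.card_subtype] at h1
  let E : Finset (MulAut T) := Finset.univ.filter fun y => y ∈ D ∧ y ≠ 1
  have hcover : (Finset.univ : Finset T) ⊆ Good ∪ E.biUnion Bad := by
    intro z _
    by_cases hz : z ∈ Good
    · exact Finset.mem_union_left _ hz
    · apply Finset.mem_union_right
      have h1 : ¬ ∀ y ∈ D, MulAut.conj z * y * (MulAut.conj z)⁻¹ ∈ P → y = 1 := by
        intro h2
        exact hz (Finset.mem_filter.2 ⟨Finset.mem_univ _, h2⟩)
      push Not at h1
      obtain ⟨y, hy, hyz, hy1⟩ := h1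
      rw [Finset.mem_biUnion]
      exact ⟨y, Finset.mem_filter.2 ⟨Finset.mem_univ _, hy, hy1⟩, Finset.mem_filter.2 ⟨Finset.mem_univ _, hyz⟩⟩
  have hEc : E.card ≤ Nat.card D := by
    rw [Nat.card_eq_fintype_card, Fintype.card_subtype]
    apply Finset.card_le_card
    intro y hy
    exact Finset.mem_filter.2 ⟨Finset.mem_univ _, (Finset.mem_filter.1 hy).2.1⟩
  have h1 : Nat.card T ≤ Good.card + (E.biUnion Bad).card := by
    rw [Nat.card_eq_fintype_card, ← Finset.card_univ]
    exact (Finset.card_le_card hcover).trans (Finset.card_union_le _ _)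
  have h2 : m * (E.biUnion Bad).card ≤ Nat.card D * (Nat.card (inn P) * Nat.card T) := by
    calc m * (E.biUnion Bad).card ≤ m * ∑ y ∈ E, (Bad y).card := Nat.mul_le_mul_left _ Finset.card_biUnion_le
      _ = ∑ y ∈ E, m * (Bad y).card := Finset.mul_sum _ _ _
      _ ≤ ∑ _y ∈ E, Nat.card (inn P) * Nat.card T :=
        Finset.sum_le_sum fun y hy => hBad y (Finset.mem_filter.1 hy).2.1 (Finset.mem_filter.1 hy).2.2
      _ = E.card * (Nat.card (inn P) * Nat.card T) := by rw [Finset.sum_const, smul_eq_mul]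
      _ ≤ _ := Nat.mul_le_mul_right _ hEc
  rw [hGood]
  change 2 * (Nat.card D * Nat.card (inn P)) < Good.card
  have hm2' : 2 * (Nat.card D * Nat.card (inn P)) < m := hm2
  set k := Nat.card D * Nat.card (inn P) with hk
  have h3 : m * (E.biUnion Bad).card ≤ k * Nat.card T := by
    rw [hk, mul_assoc]
    exact h2
  by_contra hcon
  push Not at hcon
  have h5 : 2 * (E.biUnion Bad).card < Nat.card T ∨ (E.biUnion Bad).card = 0 := by
    by_cases h0 : (E.biUnion Bad).card = 0
    · exact Or.inr h0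
    · left
      have hpos : 0 < m := by omega
      have h6 : m * (2 * (E.biUnion Bad).card) < m * Nat.card T := by
        have hTpos : 0 < Nat.card T := Nat.card_pos
        calc m * (2 * (E.biUnion Bad).card) = 2 * (m * (E.biUnion Bad).card) := by ring
          _ ≤ 2 * (k * Nat.card T) := Nat.mul_le_mul_left 2 h3
          _ = (2 * k) * Nat.card T := by ring
          _ < m * Nat.card T := Nat.mul_lt_mul_of_pos_right hm2' hTpos
      exact Nat.lt_of_mul_lt_mul_left h6
  rcases h5 with h5 | h5 <;> omega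

end fix

end Cfsg.Agent.H287.B3
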